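import Mathlib

/-! Colon ideals with respect to a nonzero integer in a finite product of Dedekind domains:
if `n ∈ I'` and every `r` with `r I' ⊆ (n)` also satisfies `r I ⊆ (n)`, then `I ≤ I'`. -/

namespace K554.FrobPi

/-- One Dedekind domain. -/
theorem le_of_colon {D : Type} [CommRing D] [IsDedekindDomain D] (a : D) (ha : a ≠ 0)
    (I I' : Ideal D) (haI : a ∈ I')
    (h : ∀ r : D, (∀ x ∈ I', r * x ∈ Ideal.span {a}) → ∀ x ∈ I, r * x ∈ Ideal.span {a}) :
    I ≤ I' := by
  have hle : Ideal.span {a} ≤ I' := by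
    rw [Ideal.span_singleton_le_iff_mem]; exact haI
  obtain ⟨J', hJ'⟩ := Ideal.dvd_iff_le.mpr hle
  have hne : Ideal.span {a} ≠ (⊥ : Ideal D) := by
    rw [Ne, Ideal.span_singleton_eq_bot]; exact ha
  have hJne : J' ≠ ⊥ := by
    rintro rfl
    apply hne
    rw [hJ', Ideal.mul_bot]
  have h1 : J' * I ≤ J' * I' := by
    rw [mul_comm J' I', ← hJ', Ideal.mul_le]
    intro r hr x hx
    refine h r (fun y hy => ?_) x hx
    rw [hJ', mul_comm r y]
    exact Ideal.mul_mem_mul hy hr
  rw [← Ideal.dvd_iff_le] at h1 ⊢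
  exact (mul_dvd_mul_iff_left hJne).mp h1

theorem frob_pi {J : Type} [Fintype J] [DecidableEq J] {D : J → Type} [∀ j, CommRing (D j)]
    [∀ j, IsDedekindDomain (D j)] (n : ℕ) (hn : ∀ j, (n : D j) ≠ 0) (I I' : Ideal (∀ j, D j))
    (hnI : (n : ∀ j, D j) ∈ I')
    (h : ∀ r : ∀ j, D j, (∀ x ∈ I', r * x ∈ Ideal.span {(n : ∀ j, D j)}) →
      ∀ x ∈ I, r * x ∈ Ideal.span {(n : ∀ j, D j)}) : I ≤ I' := by
  classical
  -- membership is componentwise
  have key : ∀ (K : Ideal (∀ j, D j)) (x : ∀ j, D j),
      x ∈ K ↔ ∀ j, x j ∈ K.map (Pi.evalRingHom D j) := by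
    intro K x
    constructor
    · intro hx j
      exact Ideal.mem_map_of_mem (Pi.evalRingHom D j) hx
    · intro hx
      have hs : x = ∑ j, Pi.single j (x j) := (Finset.univ_sum_single x).symm
      rw [hs]
      refine Ideal.sum_mem _ fun j _ => ?_
      obtain ⟨y, hy, hyx⟩ := (Ideal.mem_map_iff_of_surjective (Pi.evalRingHom D j)
        (Function.surjective_eval j)).mp (hx j)
      have : (Pi.single j (x j) : ∀ j, D j) = Pi.single j 1 * y := by
        ext i
        by_cases hi : i = j
        · subst hi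
          simp only [Pi.single_eq_same, Pi.mul_apply, one_mul]
          exact hyx.symm
        · simp [Pi.single_eq_of_ne hi]
      rw [this]
      exact K.mul_mem_left _ hy
  have keysp : ∀ x : ∀ j, D j, x ∈ Ideal.span {(n : ∀ j, D j)} ↔
      ∀ j, x j ∈ Ideal.span {(n : D j)} := by
    intro x
    simp only [Ideal.mem_span_singleton']
    constructor
    · rintro ⟨a, rfl⟩ j
      exact ⟨a j, by simp⟩
    · intro hx
      choose a ha using hx
      exact ⟨a, funext fun j => by simpa using ha j⟩
  intro x hx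
  rw [key]
  intro j
  have hj : I.map (Pi.evalRingHom D j) ≤ I'.map (Pi.evalRingHom D j) := by
    refine le_of_colon (n : D j) (hn j) _ _ ?_ ?_
    · have := Ideal.mem_map_of_mem (Pi.evalRingHom D j) hnI
      simpa using this
    · intro r hr y hy
      obtain ⟨z, hz, hzy⟩ := (Ideal.mem_map_iff_of_surjective (Pi.evalRingHom D j)
        (Function.surjective_eval j)).mp hy
      have h2 := h (Pi.single j r) (fun w hw => ?_) z hz
      · have h3 := (keysp _).mp h2 j
        simp only [Pi.mul_apply, Pi.single_eq_same] at h3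
        rw [← hzy]
        exact h3
      · rw [keysp]
        intro i
        by_cases hi : i = j
        · subst hi
          simp only [Pi.mul_apply, Pi.single_eq_same]
          exact hr _ (Ideal.mem_map_of_mem (Pi.evalRingHom D i) hw)
        · simp [Pi.single_eq_of_ne hi]
  exact hj (Ideal.mem_map_of_mem (Pi.evalRingHom D j) hx)

end K554.FrobPi
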